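import Groth.Agent.Lib.FrobKill.Algebra
import Groth.Agent.Lib.GrpDeligne.Factor
import Groth.Agent.Lib.Rigidity.Isogeny
import Groth.Agent.Lib.GrpSchField.Field

/-!
# The kernel of the `q`-power Frobenius of a commutative group is killed by `q`
-/

universe u

open CategoryTheory Limits MonoidalCategory CartesianMonoidalCategory MonObj GrpObj AlgebraicGeometry
open scoped CategoryTheory.Obj

set_option backward.isDefEq.respectTransparency false

noncomputable section

namespace GrothLib.FrobKill

variable {k : Type u} [Field k]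

/-- A finite commutative group scheme whose functions have constant `q`-th powers is killed by `q`. -/
theorem pow_id_eq_one (G : Over (Spec (CommRingCat.of k))) [GrpObj G] [IsCommMonObj G] [IsFinite G.hom]
    (p e : ℕ) [Fact p.Prime] [CharP k p] (h : ∀ r : Γ(G.left, ⊤), ∃ c, G.hom.appTop.hom c = r ^ p ^ e) :
    (𝟙 G : G ⟶ G) ^ p ^ e = 1 := by
  have haff : IsAffine G.left := isAffine_of_isAffineHom G.hom
  obtain ⟨H', ⟨ε⟩⟩ := (essImage_hopfSpec (R := CommRingCat.of k) (G := Grp.mk G)).2 haff
  obtain ⟨H, rfl⟩ : ∃ H, Opposite.op H = H' := ⟨H'.unop, rfl⟩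
  let P : Over (Spec (CommRingCat.of k)) :=
    (Spec (CommRingCat.of (H : Type u))).asOver (Spec (CommRingCat.of k))
  let i : P ≅ G := (Grp.forget _).mapIso ε
  haveI : IsMonHom i.hom := ε.hom.hom.isMonHom_hom
  haveI : Coalgebra.IsCocomm k (H : Type u) := GrpDeligne.isCocomm_of_commGroup fun T _ _ a b => by
    apply Spec.mapMulEquiv.injective
    rw [map_mul, map_mul]
    apply (cancel_mono i.hom).1
    simp only [MonObj.mul_comp]
    exact mul_comm _ _
  haveI : IsFinite (Spec.map (CommRingCat.ofHom (algebraMap k H))) := by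
    have : IsFinite P.hom := by rw [← Over.w i.hom]; infer_instance
    exact this
  haveI : Module.Finite k H := RingHom.finite_algebraMap.1 ((IsFinite.SpecMap_iff _).1 ‹_›)
  haveI : IsIso i.hom.left := inferInstanceAs (IsIso ((Over.forget _).map i.hom))
  let g : Γ(G.left, ⊤) ⟶ CommRingCat.of (H : Type u) :=
    i.hom.left.appTop ≫ (Scheme.ΓSpecIso (CommRingCat.of (H : Type u))).hom
  haveI : IsIso g := inferInstance
  have hbase : G.hom.appTop ≫ g = (Scheme.ΓSpecIso (CommRingCat.of k)).hom ≫ CommRingCat.ofHom (algebraMap k H) := by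
    rw [← Scheme.ΓSpecIso_naturality]
    show _ = P.hom.appTop ≫ _
    rw [← Over.w i.hom, Scheme.Hom.comp_appTop, Category.assoc]
  have hH : ∀ r : (H : Type u), r ^ p ^ e ∈ (algebraMap k H).range := fun r => by
    obtain ⟨r', hr'⟩ := ((ConcreteCategory.bijective_of_isIso g).2 r)
    obtain ⟨c, hc⟩ := h r'
    refine ⟨(Scheme.ΓSpecIso (CommRingCat.of k)).hom c, ?_⟩
    rw [← hr']
    show _ = g.hom r' ^ p ^ e
    rw [← map_pow, ← hc]
    exact (congrArg (fun f => (CommRingCat.Hom.hom f) c) hbase).symm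
  have key := congrArg (Spec.mapMulEquiv (R := k) (S := (H : Type u)) (T := (H : Type u)))
    (convPow_eq_one p e hH)
  rw [map_pow, map_one] at key
  have hid : Spec.mapMulEquiv (R := k) (S := (H : Type u)) (T := (H : Type u))
      (WithConv.toConv (AlgHom.id k H)) = 𝟙 P := by
    ext1
    exact Spec.map_id _
  rw [hid] at key
  rw [← cancel_epi i.hom]
  calc i.hom ≫ ((𝟙 G) ^ p ^ e) = (i.hom ≫ 𝟙 G) ^ p ^ e := MonObj.comp_pow _ _ _
    _ = (𝟙 P ≫ i.hom) ^ p ^ e := by rw [Category.comp_id, Category.id_comp]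
    _ = (𝟙 P ^ p ^ e) ≫ i.hom := (MonObj.pow_comp _ _ _).symm
    _ = (1 : P ⟶ P) ≫ i.hom := congrArg (· ≫ i.hom) key
    _ = i.hom ≫ 1 := by rw [MonObj.one_comp, MonObj.comp_one]

/-- An endomorphism which is the identity on points and the `q`-th power on functions is finite. -/
theorem isFinite_frobenius {X : Over (Spec (CommRingCat.of k))} [IsProper X.hom] (π : X ⟶ X)
    (hb : π.left.base = 𝟙 _) : IsFinite π.left := by
  haveI : IsProper π.left := by
    have : IsProper (π.left ≫ X.hom) := by rw [Over.w]; infer_instance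
    exact IsProper.of_comp π.left X.hom
  have hbx : ∀ x, π.left x = x := fun x => congr($hb x)
  haveI : LocallyQuasiFinite π.left := .of_finite_preimage_singleton π.left fun y =>
    (Set.finite_singleton y).subset fun x hx => (hbx x).symm.trans hx
  exact IsFinite.of_isProper_of_locallyQuasiFinite π.left

/-- The kernel of a `q`-power Frobenius endomorphism is killed by `q`. -/
theorem kernel_frobenius_pow_eq_one {X N : Over (Spec (CommRingCat.of k))} [GrpObj X] [IsCommMonObj X]
    [IsProper X.hom] (π : X ⟶ X) [IsMonHom π] (hb : π.left.base = 𝟙 _)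
    (hle : ∀ U : X.left.Opens, U ≤ π.left ⁻¹ᵁ U) (p e : ℕ) [Fact p.Prime] [CharP k p]
    (happ : ∀ (U : X.left.Opens) (s : Γ(X.left, U)), (π.left.appLE U U (hle U)).hom s = s ^ p ^ e)
    (i : N ⟶ X) (hi : AlgGrp.IsKernel i π) : i ^ p ^ e = 1 := by
  obtain ⟨_, _⟩ := GrpDeligne.exists_grpObj_kernel π i hi
  haveI := GrpDeligne.mono_of_isKernel hi
  haveI := isFinite_frobenius π hb
  have hpb : IsPullback i.left N.hom π.left η[X].left := hi.map (Over.forget _)
  haveI : IsFinite N.hom := MorphismProperty.of_isPullback hpb ‹_›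
  haveI : IsClosedImmersion η[X].left := GrpSchField.unit_isClosedImmersion X
  haveI : IsClosedImmersion i.left := MorphismProperty.of_isPullback hpb.flip ‹_›
  haveI : IsCommMonObj N := by
    constructor
    rw [← cancel_mono i, Category.assoc, IsMonHom.mul_hom, ← Category.assoc, ← BraidedCategory.braiding_naturality,
      Category.assoc, IsCommMonObj.mul_comm]
  let o := η[X].left (IsLocalRing.closedPoint k)
  have hbx : ∀ x, π.left x = x := fun x => congr($hb x)
  have hrange : ∀ y, i.left y = o := fun y => by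
    rw [← hbx (i.left y), ← Scheme.Hom.comp_apply, hpb.w, Scheme.Hom.comp_apply]
    exact congrArg η[X].left (Subsingleton.elim (α := ↥(Spec (CommRingCat.of k))) _ _)
  obtain ⟨_, ⟨U, hU, rfl⟩, hoU, -⟩ :=
    X.left.isBasis_affineOpens.exists_subset_of_mem_open (Set.mem_univ o) isOpen_univ
  have htop : i.left ⁻¹ᵁ U = ⊤ := top_le_iff.1 fun y _ => show i.left y ∈ U by rw [hrange]; exact hoU
  have hη : (⊤ : (Spec (CommRingCat.of k)).Opens) ≤ η[X].left ⁻¹ᵁ U := fun s _ => by
    show η[X].left s ∈ U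
    rw [Subsingleton.elim (α := ↥(Spec (CommRingCat.of k))) s (IsLocalRing.closedPoint k)]
    exact hoU
  have hsurj : Function.Surjective (i.left.appLE U ⊤ htop.ge) := by
    haveI : IsIso (homOfLE htop.ge).op := ⟨(homOfLE htop.le).op, rfl, rfl⟩
    exact (ConcreteCategory.bijective_of_isIso (N.left.presheaf.map (homOfLE htop.ge).op)).2.comp
      (i.left.app_surjective U hU)
  have hfun : ∀ r : Γ(N.left, ⊤), ∃ c, N.hom.appTop.hom c = r ^ p ^ e := fun r => by
    obtain ⟨s, rfl⟩ := hsurj r
    refine ⟨η[X].left.appLE U ⊤ hη s, ?_⟩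
    rw [← map_pow, ← happ U s]
    have h1 : η[X].left.appLE U ⊤ hη ≫ N.hom.appLE ⊤ ⊤ le_top = π.left.appLE U U (hle U) ≫ i.left.appLE U ⊤ htop.ge := by
      rw [Scheme.Hom.appLE_comp_appLE, Scheme.Hom.appLE_comp_appLE]
      congr 1
      exact hpb.w.symm
    have h2 : N.hom.appTop = N.hom.appLE ⊤ ⊤ le_top := (Scheme.Hom.appLE_eq_app _).symm
    rw [h2]
    exact congrArg (fun f => (CommRingCat.Hom.hom f) s) h1
  have h := pow_id_eq_one N p e hfun
  have h2 := congrArg (· ≫ i) h
  simpa [MonObj.pow_comp, MonObj.one_comp] using h2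

end GrothLib.FrobKill
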