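import Mathlib.RingTheory.Bialgebra.Convolution
import Mathlib.RingTheory.PiTensorProduct
import Mathlib.LinearAlgebra.PiTensorProduct.Basis
import Mathlib.LinearAlgebra.FreeModule.Finite.Basic
import Mathlib.GroupTheory.PGroup
import Mathlib.Algebra.CharP.Algebra
import Mathlib.LinearAlgebra.Dimension.Free
import Mathlib.LinearAlgebra.Basis.VectorSpace
import Mathlib.Data.ZMod.Basic

/-!
# A finite commutative group killed by the `q`-power Frobenius is killed by `q`
-/

universe u v

open WithConv PiTensorProduct Module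
open scoped TensorProduct

noncomputable section

namespace GrothLib.FrobKill

/-- An invariant function sums to its sum over fixed points when `p` kills the values. -/
theorem sum_eq_sum_fixedPoints {G α M : Type*} [Group G] [Finite G] [MulAction G α] [Fintype α] [AddCommMonoid M]
    {p : ℕ} [Fact p.Prime] (hG : IsPGroup p G) (hM : ∀ m : M, p • m = 0) (w : α → M)
    (hw : ∀ (g : G) (a : α), w (g • a) = w a) [DecidablePred (· ∈ MulAction.fixedPoints G α)] :
    ∑ a, w a = ∑ a ∈ Finset.univ.filter (· ∈ MulAction.fixedPoints G α), w a := by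
  classical
  rw [← Finset.sum_filter_add_sum_filter_not Finset.univ (· ∈ MulAction.fixedPoints G α) w]
  conv_rhs => rw [← add_zero (Finset.sum _ _)]
  congr 1
  rw [← Finset.sum_fiberwise _ (fun a => (Quotient.mk (MulAction.orbitRel G α) a))]
  refine Finset.sum_eq_zero fun o _ => ?_
  obtain ⟨a₀, rfl⟩ := Quotient.mk_surjective o
  by_cases hfix : a₀ ∈ MulAction.fixedPoints G α
  · refine Finset.sum_eq_zero fun a ha => ?_
    simp only [Finset.mem_filter, Finset.mem_univ, true_and] at ha
    obtain ⟨g, hg⟩ := Quotient.exact ha.2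
    exact absurd ((hfix g).symm.trans hg ▸ hfix) ha.1
  · have hval : ∀ a ∈ (Finset.univ.filter fun a => a ∉ MulAction.fixedPoints G α).filter
        (fun a => Quotient.mk (MulAction.orbitRel G α) a = Quotient.mk _ a₀), w a = w a₀ := by
      intro a ha
      obtain ⟨g, hg⟩ := Quotient.exact (Finset.mem_filter.1 ha).2
      rw [← hg]; exact hw g a₀
    rw [Finset.sum_congr rfl hval, Finset.sum_const]
    have hset : ((Finset.univ.filter fun a => a ∉ MulAction.fixedPoints G α).filter
        (fun a => Quotient.mk (MulAction.orbitRel G α) a = Quotient.mk _ a₀)) =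
        (MulAction.orbit G a₀).toFinset := by
      ext a
      simp only [Finset.mem_filter, Finset.mem_univ, true_and, Set.mem_toFinset]
      refine ⟨fun h => Quotient.exact h.2, fun h => ⟨fun hf => hfix ?_, Quotient.sound h⟩⟩
      obtain ⟨g, rfl⟩ := h
      have := hf g⁻¹
      rw [inv_smul_smul] at this
      exact this ▸ hf
    obtain ⟨n, hn⟩ := hG.card_orbit a₀
    have hn0 : n ≠ 0 := by
      rintro rfl
      apply hfix
      rw [MulAction.mem_fixedPoints_iff_card_orbit_eq_one, ← Nat.card_eq_fintype_card, hn, pow_zero]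
    obtain ⟨m, hm⟩ := dvd_pow_self p hn0
    rw [hset, Set.toFinset_card, ← Nat.card_eq_fintype_card, hn, hm, mul_nsmul, hM, nsmul_zero]

variable {k : Type u} {R : Type v} [Field k] [CommRing R] [Bialgebra k R]

/-- Composition with an algebra map as a homomorphism of convolution monoids. -/
def postHom {T T' : Type*} [CommRing T] [Algebra k T] [CommRing T'] [Algebra k T'] (h : T →ₐ[k] T') :
    WithConv (R →ₐ[k] T) →* WithConv (R →ₐ[k] T') where
  toFun f := toConv (h.comp f.ofConv)
  map_one' := by
    apply ofConv_injective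
    refine AlgHom.ext fun r => ?_
    simp [AlgHom.convOne_def]
  map_mul' f g := by
    apply ofConv_injective
    rw [ofConv_toConv, AlgHom.comp_convMul_distrib]

variable [Coalgebra.IsCocomm k R] [Module.Finite k R]

/-- A finite commutative group killed by the `q`-power Frobenius is killed by `q`. -/
theorem convPow_eq_one (p e : ℕ) [Fact p.Prime] [CharP k p]
    (h : ∀ r : R, r ^ p ^ e ∈ (algebraMap k R).range) :
    (toConv (AlgHom.id k R) : WithConv (R →ₐ[k] R)) ^ p ^ e = 1 := by
  classical
  let q := p ^ e
  haveI : NeZero q := ⟨pow_ne_zero e (Fact.out (p := p.Prime)).ne_zero⟩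
  let G := Multiplicative (ZMod q)
  have hcard : Fintype.card G = q := by
    show Fintype.card (Multiplicative (ZMod q)) = q
    rw [Fintype.card_multiplicative, ZMod.card]
  have hG : IsPGroup p G := IsPGroup.of_card (n := e) (by rw [Nat.card_eq_fintype_card, hcard])
  let T := ⨂[k] _ : G, R
  let μ : T →ₐ[k] R := liftAlgHom (MultilinearMap.mkPiAlgebra k G R) (by simp)
    (fun x y => by simp [Finset.prod_mul_distrib])
  have hμ : ∀ x : G → R, μ (tprod k x) = ∏ i, x i := fun x => by
    show PiTensorProduct.lift _ (tprod k x) = _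
    rw [PiTensorProduct.lift.tprod, MultilinearMap.mkPiAlgebra_apply]
  let τ : G → (T →ₐ[k] T) := fun g => liftAlgHom ((tprod k).domDomCongr (Equiv.mulLeft g))
    (by rw [MultilinearMap.domDomCongr_apply]; rfl)
    (fun x y => by rw [MultilinearMap.domDomCongr_apply]; exact (tprod_mul_tprod _ _).symm)
  have hτ : ∀ g (x : G → R), τ g (tprod k x) = tprod k (fun i => x (g * i)) := fun g x => by
    show PiTensorProduct.lift _ (tprod k x) = _
    rw [PiTensorProduct.lift.tprod, MultilinearMap.domDomCongr_apply]
    rfl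
  let ι : G → (R →ₐ[k] T) := fun i => singleAlgHom (R := k) (A := fun _ : G => R) i
  have hμι : ∀ i, μ.comp (ι i) = AlgHom.id k R := fun i => AlgHom.ext fun r => by
    show μ (tprod k (Pi.mulSingle i r)) = r
    rw [hμ, Finset.prod_pi_mulSingle']
    simp
  have hτι : ∀ g i, (τ g).comp (ι i) = ι (g⁻¹ * i) := fun g i => AlgHom.ext fun r => by
    show τ g (tprod k (Pi.mulSingle i r)) = tprod k (Pi.mulSingle (g⁻¹ * i) r)
    rw [hτ]
    congr 1
    ext j
    simp only [Pi.mulSingle_apply, eq_inv_mul_iff_mul_eq]
  let Φ : WithConv (R →ₐ[k] T) := ∏ i, toConv (ι i)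
  have hμΦ : postHom μ Φ = (toConv (AlgHom.id k R) : WithConv (R →ₐ[k] R)) ^ q := by
    rw [map_prod, Finset.prod_congr rfl (g := fun _ => toConv (AlgHom.id k R)) fun i _ => ?_, Finset.prod_const,
      Finset.card_univ, hcard]
    exact congrArg toConv (hμι i)
  have hτΦ : ∀ g, postHom (τ g) Φ = Φ := fun g => by
    rw [map_prod, Finset.prod_congr rfl (g := fun i => toConv (ι (g⁻¹ * i))) fun i _ => ?_]
    · exact Fintype.prod_equiv (Equiv.mulLeft g⁻¹) _ _ fun _ => rfl
    · exact congrArg toConv (hτι g i)
  have hrange : ∀ x, ((toConv (AlgHom.id k R) : WithConv (R →ₐ[k] R)) ^ q).ofConv x ∈ (algebraMap k R).range := by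
    intro x
    rw [← hμΦ]
    show μ (Φ.ofConv x) ∈ _
    let t := Φ.ofConv x
    have ht : ∀ g, τ g t = t := fun g => congrArg (fun f : WithConv (R →ₐ[k] T) => f.ofConv x) (hτΦ g)
    let b := Module.Free.chooseBasis k R
    let κ := Module.Free.ChooseBasisIndex k R
    let B : Basis (G → κ) k T := Basis.piTensorProduct fun _ : G => b
    letI : MulAction G (G → κ) := arrowAction
    have hsmul : ∀ (g : G) (f : G → κ) (i : G), (g • f) i = f (g⁻¹ * i) := fun g f i => rfl
    have hc : ∀ g f, B.repr t (g • f) = B.repr t f := fun g f => by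
      have key : (B.coord (g • f)).comp (τ g⁻¹).toLinearMap = B.coord f := B.ext fun f' => by
        show B.repr (τ g⁻¹ (B f')) (g • f) = B.repr (B f') f
        rw [show τ g⁻¹ (B f') = B (g • f') by
          rw [Basis.piTensorProduct_apply, hτ, Basis.piTensorProduct_apply]
          rfl, B.repr_self, B.repr_self, Finsupp.single_apply, Finsupp.single_apply]
        simp only [smul_left_cancel_iff]
      conv_rhs => rw [← Basis.coord_apply, ← key]
      show _ = B.repr (τ g⁻¹ t) (g • f)
      rw [ht]
    let w : (G → κ) → R := fun f => B.repr t f • ∏ i, b (f i)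
    have hw : ∀ (g : G) f, w (g • f) = w f := fun g f => by
      simp only [w, hc]
      congr 1
      exact Fintype.prod_equiv (Equiv.mulLeft g⁻¹) _ _ fun i => rfl
    have hμt : μ t = ∑ f, w f := by
      conv_lhs => rw [← B.sum_repr t]
      simp only [map_sum, map_smul]
      refine Finset.sum_congr rfl fun f _ => ?_
      rw [Basis.piTensorProduct_apply, hμ]
    have hp : ∀ m : R, p • m = 0 := fun m => by
      rw [← Nat.cast_smul_eq_nsmul k, CharP.cast_eq_zero, zero_smul]
    show μ t ∈ _
    rw [hμt, sum_eq_sum_fixedPoints hG hp w hw]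
    refine Subring.sum_mem _ fun f hf => ?_
    have hconst : ∀ i, f i = f 1 := fun i => by
      have hfix : f ∈ MulAction.fixedPoints G (G → κ) := (Finset.mem_filter.1 hf).2
      have := congrFun (hfix i⁻¹) 1
      rw [hsmul, inv_inv, _root_.mul_one] at this
      exact this
    simp only [w, Algebra.smul_def, hconst, Finset.prod_const, Finset.card_univ, hcard]
    exact mul_mem ⟨_, rfl⟩ (h _)
  apply ofConv_injective
  refine AlgHom.ext fun x => ?_
  obtain ⟨c, hc⟩ := hrange x
  have hcounit : postHom (Bialgebra.counitAlgHom k R) ((toConv (AlgHom.id k R) : WithConv (R →ₐ[k] R)) ^ q) = 1 := by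
    rw [map_pow, show postHom (Bialgebra.counitAlgHom k R) (toConv (AlgHom.id k R)) = 1 from ?_, one_pow]
    apply ofConv_injective
    refine AlgHom.ext fun r => ?_
    simp [postHom, AlgHom.convOne_def]
  have h1 := congrArg (fun f : WithConv (R →ₐ[k] k) => f.ofConv x) hcounit
  simp only [AlgHom.convOne_def] at h1
  change ((toConv (AlgHom.id k R) : WithConv (R →ₐ[k] R)) ^ q).ofConv x = _
  rw [← hc]
  simp only [postHom, MonoidHom.coe_mk, OneHom.coe_mk, ofConv_toConv, AlgHom.comp_apply, ← hc,
    AlgHom.commutes] at h1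
  simp [AlgHom.convOne_def] at h1 ⊢
  rw [h1]

end GrothLib.FrobKill
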